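import Cfsg.Agent.HST.ModN

/-! The split extension `4³ : L₃(2)`: a permutation model. -/

set_option autoImplicit false
set_option maxRecDepth 100000
set_option linter.unusedSimpArgs false
set_option linter.unreachableTactic false
set_option linter.unusedTactic false
set_option maxHeartbeats 1000000

namespace Cfsg.Lib.HST

open Subgroup Cfsg.Lib.Spor Bulk PK WF

open Tup

variable {G : Type*} [Group G] {T : Tup G}

/-- permutation model -/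
@[reducible] def MM : PM where
  w := 9
  n := 28
  cs := [3441222883275887445037996700432635969218631969475979285799306514211449344512,
    2294067874562762569119363471813900255617134664585580650443098897315911172105,
    2676450770485337780910875397632853501005989797839325681628077863598381858825,
    2295807120334560272220886356567515407553155810117579225465990407222870147081,
    2677444630484028516103717521507323919167870939854152786659315127217375936521,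
    2675705384728895162255455923472808590245661728726038430224645796066178119186,
    2294813260335905693133905367982344736297320015263475143255184052952355578907,
    1911679143943907154684367522955577006066875542198664011254450612354264104484,
    2929636369836980840646879890486761067671933780816647921241143694844052148269,
    3313264018839144743937676749453406761929493512328828184929780109175717400621,
    2932617936604448612289319064061462736116743736252995539509704124126301561398,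
    3185804024085997307854248349350498060700045872643704038756193410113019351085,
    3314257873125000798215356119211501318225143898501041128499031558486198325760,
    3441222883275887445037996700432635969218631969475979285799306514211449344512,
    3441222883275887445037996700432635969218631969475979285799306514211449344512]
  SW := [([[1],[2],[3],[4],[5],[6],[7],[8],[9],[10],[11],[12]],
    [⟨0, [64, 196, 133, 326, 263, 392, 518, 455, 584, 902, 839, 968, 710, 647, 776, 1094, 1031, 1158, 1286, 1223,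
    1350, 1670, 1479, 1419, 1734, 1542, 1606], [[0, 7, 7, 2, 11, 6, 4], [6, 6, 10, 6, 6]]⟩,
     ⟨4, [960, 1089, 1664, 1601, 704, 512, 641, 1024, 897, 1409, 1217, 384, 1537, 1728, 832, 1473, 1344, 769, 577,
    1153, 320, 1280, 448], [[1, 1], [0, 1, 1, 0, 1, 0, 0], [0, 0, 1, 1, 0, 0, 1, 0, 0, 1, 0, 0]]⟩,
     ⟨5, [384, 1601, 770, 1409, 898, 1472, 513, 1218, 704, 1025, 1728, 577, 1346, 960, 1153], []⟩]),
   ([[1],[2],[3],[4],[5],[6]],
    [⟨0, [64, 196, 133], [[0, 3], [4, 2, 4]]⟩,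
     ⟨4, [832, 449, 641], [[0, 1, 0]]⟩,
     ⟨5, [704, 512, 896], []⟩]),
   ([[1]],
    [⟨0, [64], [[0, 0]]⟩,
     ⟨4, [448], []⟩]),
   ([[1,1],[3,3],[5,5]],
    [⟨4, [448], [[1], [2]]⟩,
     ⟨5, [512], [[1]]⟩,
     ⟨0, [64], []⟩]),
   ([[1],[3,3],[5,5]],
    [⟨0, [64], [[1], [0, 2]]⟩,
     ⟨5, [512], [[0, 1]]⟩,
     ⟨4, [640, 448, 832], []⟩]),
   ([[1],[3,3],[5,5],[12],[11,12,11]],
    [⟨0, [64], [[4], [1], [0, 2], [0, 3, 0]]⟩,
     ⟨5, [513], [[1, 2], [0], [3]]⟩,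
     ⟨4, [640, 1089, 1218, 448, 1665, 1410, 1536, 1346, 1472, 832, 1281, 1026, 1602, 1730, 1154], []⟩]),
   ([[1],[3,3],[5,5],[12,5],[10,12,5,9]],
    [⟨0, [64, 131, 195], [[3, 4], [0, 2], [0, 1, 0]]⟩,
     ⟨5, [896, 513, 705], [[1, 2]]⟩,
     ⟨4, [832, 448, 640], []⟩]),
   ([[1],[2],[3],[4],[5],[6],[9],[10],[11],[12]],
    [⟨0, [64, 196, 133, 390, 327, 582, 519, 966, 903, 774, 711], [[4, 3, 4], [9], [5, 7, 8, 4]]⟩,
     ⟨4, [448, 1025, 1217, 1472, 1730, 1408, 1602, 641, 1154, 1344, 1665, 833, 1537, 1089, 1281], [[2], [0, 1, 0,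
    0, 1]]⟩,
     ⟨5, [768, 897, 577, 384, 513, 704, 961], []⟩]),
   ([[7]],
    [⟨0, [320, 1088, 384, 1152, 1024, 256], []⟩]),
   ([[9]],
    [⟨0, [384, 320], []⟩])]

instance : NeZero MM.n := ⟨by decide⟩

theorem MM_ok : MM.ok = true := by decide +kernel

theorem MM_subs : MM.subsOK = true := by decide +kernel

theorem MM_W0 : sub T.M.g (MM.W 0) = T.sM :=
  M_sub (by decide +kernel)

theorem MM_W1 : sub T.M.g (MM.W 1) = T.sW :=
  M_sub (by decide +kernel)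

theorem MM_W2 : sub T.M.g (MM.W 2) = T.sC :=
  M_sub (by decide +kernel)

theorem MM_W3 : sub T.M.g (MM.W 3) = T.sV :=
  M_sub (by decide +kernel)

theorem MM_W4 : sub T.M.g (MM.W 4) = T.sD :=
  M_sub (by decide +kernel)

theorem MM_W5 : sub T.M.g (MM.W 5) = T.sR1 :=
  M_sub (by decide +kernel)

theorem MM_W6 : sub T.M.g (MM.W 6) = T.sR2 :=
  M_sub (by decide +kernel)

theorem MM_W7 : sub T.M.g (MM.W 7) = T.sP :=
  M_sub (by decide +kernel)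

theorem MM_W8 : sub T.M.g (MM.W 8) = T.sX :=
  M_sub (by decide +kernel)

theorem MM_W9 : sub T.M.g (MM.W 9) = T.sY :=
  M_sub (by decide +kernel)

theorem MM_sat : MM.satB 15 io rM0 = true := by decide +kernel

theorem embM (h : Sat T.M.g 15 io rM0) (hc : Nat.card T.sM = 10752) : Emb MM.m T.M.g :=
  emb_of_card (PM.exists_hom' MM_ok MM_subs MM_sat h (fun l => (M_res l).imp And.left And.right)
    cardM_le (by decide +kernel)) (N := 10752) (by norm_num) (PM.card_sub MM_ok MM_subs 0)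
    ((congrArg (fun K : Subgroup G => Nat.card K) MM_W0).trans hc)

theorem card_sR1 (h : Emb MM.m T.M.g) : Nat.card T.sR1 = 64 :=
  MM_W5 (T := T) ▸ PM.card_of_emb MM_ok MM_subs h 5

theorem card_sR2 (h : Emb MM.m T.M.g) : Nat.card T.sR2 = 64 :=
  MM_W6 (T := T) ▸ PM.card_of_emb MM_ok MM_subs h 6

theorem card_sP (h : Emb MM.m T.M.g) : Nat.card T.sP = 1536 :=
  MM_W7 (T := T) ▸ PM.card_of_emb MM_ok MM_subs h 7

theorem m_rE (h : Emb MM.m T.M.g) : ∀ r ∈ rE, wv T.g r = 1 :=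
  M_rel (PM.rels MM_ok MM_subs h rE (by decide +kernel)) (by decide +kernel)

theorem m_split (h : Emb MM.m T.M.g) :
    ∀ p ∈ T.sM, p * T.a = T.a * p → (p * p = 1 ∨ p * p = T.a * T.a) → ((∃ w ∈ T.sW, p = w) ∨ (∃ k ∈
    T.sD, T.r = k * p ∨ T.r = k * T.y * p * T.y⁻¹ ∨ T.r = k * T.y⁻¹ * p * T.y ∨ T.c * T.r = k * p ∨
    T.c * T.r = k * T.y * p * T.y⁻¹ ∨ T.c * T.r = k * T.y⁻¹ * p * T.y)) := by
  have := PM.holds MM_ok MM_subs h (p := (.all 0 20 (.imp (.eq [1,20] [20,1]) (.imp (.or (.eq [20,20] []) (.eq [20,20] [1,1])) (.or (.ex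
      1 24 (.eq [20] [24])) (.ex 4 25 (.or (.eq [12] [20,25]) (.or (.eq [12] [10,20,9,25]) (.or (.eq
      [12] [9,20,10,25]) (.or (.eq [12,5] [20,25]) (.or (.eq [12,5] [10,20,9,25]) (.eq [12,5]
      [9,20,10,25])))))))))))) (by decide +kernel)
  simp only [Fm.sem, wv_cons, wv_nil, one_mul, upd_apply, Nat.reduceEqDiff, ↓reduceIte, g_simp, MM_W0, MM_W1,
    MM_W2, MM_W3, MM_W4, MM_W5, MM_W6, MM_W7, MM_W8, MM_W9] at this
  exact this

theorem m_tw (h : Emb MM.m T.M.g) :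
    T.j * T.a * T.a * T.a = T.a * T.a * T.a * T.j * T.a * T.a ∧ T.j * T.a * T.a * T.b = T.c * T.j *
    T.a * T.a ∧ T.j * T.a * T.a * T.c = T.b * T.j * T.a * T.a ∧ T.j * T.a * T.a * T.y = T.y⁻¹ * T.j
    * T.a * T.a ∧ T.j * T.a * T.a * T.j * T.a * T.a = 1 ∧ T.x * T.j * T.a * T.a * T.x * T.j * T.a *
    T.a * T.x * T.j * T.a * T.a = 1 := by
  have := PM.holds MM_ok MM_subs h (p := (.and (.eq [1,1,1,11] [1,1,11,1,1,1]) (.and (.eq [3,1,1,11] [1,1,11,5]) (.and (.eq [5,1,1,11]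
      [1,1,11,3]) (.and (.eq [9,1,1,11] [1,1,11,10]) (.and (.eq [1,1,11,1,1,11] []) (.eq
      [1,1,11,7,1,1,11,7,1,1,11,7] []))))))) (by decide +kernel)
  simp only [Fm.sem, wv_cons, wv_nil, one_mul, upd_apply, Nat.reduceEqDiff, ↓reduceIte, g_simp, MM_W0, MM_W1,
    MM_W2, MM_W3, MM_W4, MM_W5, MM_W6, MM_W7, MM_W8, MM_W9] at this
  exact this

theorem m_R1 (h : Emb MM.m T.M.g) :
    ¬ (∃ s ∈ T.sR1, T.y = s) ∧ (T.b * T.c * T.y * T.r * T.y⁻¹) * (T.b * T.c * T.y * T.r * T.y⁻¹) = 1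
    ∧ ¬ (∃ s ∈ T.sR1, (T.b * T.c * T.y * T.r * T.y⁻¹) = s) ∧ (T.b * T.c * T.y * T.r * T.y⁻¹) * T.j *
    (T.b * T.c * T.y * T.r * T.y⁻¹) * T.j = 1 ∧ (∃ s ∈ T.sR1, (T.b * T.c * T.y * T.r * T.y⁻¹) * T.y
    * (T.b * T.c * T.y * T.r * T.y⁻¹) * T.y * (T.b * T.c * T.y * T.r * T.y⁻¹) * T.y = s) ∧ (T.b *
    T.c * T.y * T.r * T.y⁻¹) * T.a = T.a * (T.b * T.c * T.y * T.r * T.y⁻¹) ∧ (T.b * T.c * T.y * T.r
    * T.y⁻¹) * T.b * T.b * (T.b * T.c * T.y * T.r * T.y⁻¹) = T.b * T.b * T.a * T.a ∧ (∀ p ∈ T.sR1, p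
    * T.y * p * T.y * p * T.y = 1 → (∃ s ∈ T.sR1, s * T.y = p * T.y * s)) ∧ (∀ p ∈ T.sR1, p * T.y =
    T.y * p → (∃ k ∈ T.sC, p = k)) ∧ (∀ p ∈ T.sR1, ∃ k ∈ T.sC, p * T.y * p * T.y * p * T.y = k) ∧ (∀
    p ∈ T.sR1, (∃ k ∈ T.sC, p * T.j * p * T.j = k) → (∀ s ∈ T.sR1, (∃ k ∈ T.sC, s * (T.b * T.c * T.y
    * T.r * T.y⁻¹) * s * (T.b * T.c * T.y * T.r * T.y⁻¹) = k) → (∃ k ∈ T.sC, p * T.j * s * (T.b *
    T.c * T.y * T.r * T.y⁻¹) * p * T.j * s * (T.b * T.c * T.y * T.r * T.y⁻¹) = k) → (∃ u ∈ T.sR1, (∃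
    k ∈ T.sC, u * p * T.j = T.j * k * u) ∧ (∃ k ∈ T.sC, u * s * (T.b * T.c * T.y * T.r * T.y⁻¹) =
    (T.b * T.c * T.y * T.r * T.y⁻¹) * k * u)))) := by
  have := PM.holds MM_ok MM_subs h (p := (.bind 29 [10,12,9,5,3] (.and (.not (.ex 5 21 (.eq [9] [21]))) (.and (.eq [29,29] []) (.and
      (.not (.ex 5 21 (.eq [29] [21]))) (.and (.eq [11,29,11,29] []) (.and (.ex 5 21 (.eq
      [9,29,9,29,9,29] [21])) (.and (.eq [1,29] [29,1]) (.and (.eq [29,3,3,29] [1,1,3,3]) (.and (.all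
      5 20 (.imp (.eq [9,20,9,20,9,20] []) (.ex 5 21 (.eq [9,21] [21,9,20])))) (.and (.all 5 20 (.imp
      (.eq [9,20] [20,9]) (.ex 2 25 (.eq [20] [25])))) (.and (.all 5 20 (.ex 2 25 (.eq
      [9,20,9,20,9,20] [25]))) (.all 5 20 (.imp (.ex 2 25 (.eq [11,20,11,20] [25])) (.all 5 21 (.imp
      (.ex 2 25 (.eq [29,21,29,21] [25])) (.imp (.ex 2 25 (.eq [29,21,11,20,29,21,11,20] [25])) (.ex 5
      22 (.and (.ex 2 25 (.eq [11,20,22] [22,25,11])) (.ex 2 25 (.eq [29,21,22]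
      [22,25,29]))))))))))))))))))))) (by decide +kernel)
  simp only [Fm.sem, wv_cons, wv_nil, one_mul, upd_apply, Nat.reduceEqDiff, ↓reduceIte, g_simp, MM_W0, MM_W1,
    MM_W2, MM_W3, MM_W4, MM_W5, MM_W6, MM_W7, MM_W8, MM_W9] at this
  exact this

theorem m_R2 (h : Emb MM.m T.M.g) :
    ¬ (∃ s ∈ T.sR2, T.y = s) ∧ (T.y * T.r * T.y⁻¹) * (T.y * T.r * T.y⁻¹) = 1 ∧ ¬ (∃ s ∈ T.sR2, (T.y
    * T.r * T.y⁻¹) = s) ∧ (T.y * T.r * T.y⁻¹) * T.j * (T.y * T.r * T.y⁻¹) * T.j = 1 ∧ (∃ s ∈ T.sR2,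
    (T.y * T.r * T.y⁻¹) * T.y * (T.y * T.r * T.y⁻¹) * T.y * (T.y * T.r * T.y⁻¹) * T.y = s) ∧ (T.y *
    T.r * T.y⁻¹) * T.a = T.a * (T.y * T.r * T.y⁻¹) ∧ (T.y * T.r * T.y⁻¹) * T.b * T.b * (T.y * T.r *
    T.y⁻¹) = T.b * T.b * T.a * T.a ∧ (∀ p ∈ T.sR2, p * T.y * p * T.y * p * T.y = 1 → (∃ s ∈ T.sR2, s
    * T.y = p * T.y * s)) ∧ (∀ p ∈ T.sR2, p * T.y = T.y * p → (∃ k ∈ T.sC, p = k)) ∧ (∀ p ∈ T.sR2, ∃
    k ∈ T.sC, p * T.y * p * T.y * p * T.y = k) ∧ (∀ p ∈ T.sR2, (∃ k ∈ T.sC, p * T.j * p * T.j = k) →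
    (∀ s ∈ T.sR2, (∃ k ∈ T.sC, s * (T.y * T.r * T.y⁻¹) * s * (T.y * T.r * T.y⁻¹) = k) → (∃ k ∈ T.sC,
    p * T.j * s * (T.y * T.r * T.y⁻¹) * p * T.j * s * (T.y * T.r * T.y⁻¹) = k) → (∃ u ∈ T.sR2, (∃ k
    ∈ T.sC, u * p * T.j = T.j * k * u) ∧ (∃ k ∈ T.sC, u * s * (T.y * T.r * T.y⁻¹) = (T.y * T.r *
    T.y⁻¹) * k * u)))) := by
  have := PM.holds MM_ok MM_subs h (p := (.bind 29 [10,12,9] (.and (.not (.ex 6 21 (.eq [9] [21]))) (.and (.eq [29,29] []) (.and (.not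
      (.ex 6 21 (.eq [29] [21]))) (.and (.eq [11,29,11,29] []) (.and (.ex 6 21 (.eq [9,29,9,29,9,29]
      [21])) (.and (.eq [1,29] [29,1]) (.and (.eq [29,3,3,29] [1,1,3,3]) (.and (.all 6 20 (.imp (.eq
      [9,20,9,20,9,20] []) (.ex 6 21 (.eq [9,21] [21,9,20])))) (.and (.all 6 20 (.imp (.eq [9,20]
      [20,9]) (.ex 2 25 (.eq [20] [25])))) (.and (.all 6 20 (.ex 2 25 (.eq [9,20,9,20,9,20] [25])))
      (.all 6 20 (.imp (.ex 2 25 (.eq [11,20,11,20] [25])) (.all 6 21 (.imp (.ex 2 25 (.eq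
      [29,21,29,21] [25])) (.imp (.ex 2 25 (.eq [29,21,11,20,29,21,11,20] [25])) (.ex 6 22 (.and (.ex
      2 25 (.eq [11,20,22] [22,25,11])) (.ex 2 25 (.eq [29,21,22] [22,25,29]))))))))))))))))))))) (by decide +kernel)
  simp only [Fm.sem, wv_cons, wv_nil, one_mul, upd_apply, Nat.reduceEqDiff, ↓reduceIte, g_simp, MM_W0, MM_W1,
    MM_W2, MM_W3, MM_W4, MM_W5, MM_W6, MM_W7, MM_W8, MM_W9] at this
  exact this

theorem m_no2 (h : Emb MM.m T.M.g) :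
    ∀ u ∈ T.sR2, u * T.j * u * T.j = T.j * u * T.j * u → ¬ (∃ k ∈ T.sC, T.b * T.b * u * (T.y * T.r *
    T.y⁻¹) * u * (T.y * T.r * T.y⁻¹) * T.a * T.a = k) := by
  have := PM.holds MM_ok MM_subs h (p := (.bind 29 [10,12,9] (.all 6 22 (.imp (.eq [11,22,11,22] [22,11,22,11]) (.not (.ex 2 25 (.eq
      [1,1,29,22,29,22,3,3] [25]))))))) (by decide +kernel)
  simp only [Fm.sem, wv_cons, wv_nil, one_mul, upd_apply, Nat.reduceEqDiff, ↓reduceIte, g_simp, MM_W0, MM_W1,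
    MM_W2, MM_W3, MM_W4, MM_W5, MM_W6, MM_W7, MM_W8, MM_W9] at this
  exact this

theorem m_std (h : Emb MM.m T.M.g) :
    ∀ u ∈ T.sR1, u * u = 1 → (∃ k ∈ T.sC, T.b * T.b * u * (T.b * T.c * T.y * T.r * T.y⁻¹) * u * (T.b
    * T.c * T.y * T.r * T.y⁻¹) * T.a * T.a = k) → (∃ s ∈ T.sR1, s * T.a = T.a * s ∧ (∃ k1 ∈ T.sC,
    T.j * s = s * T.j * k1) ∧ (∃ k3 ∈ T.sC, T.b * T.b * s = s * T.b * T.b * k3 ∧ (((∃ k2 ∈ T.sC,
    (T.b * T.c * T.y * T.r * T.y⁻¹) * s = s * (T.b * T.c * T.y * T.r * T.y⁻¹) * k2) ∧ (s * u * k3 =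
    T.r * s ∨ s * (T.b * T.c * T.y * T.r * T.y⁻¹) * u * (T.b * T.c * T.y * T.r * T.y⁻¹) * T.a * T.a
    * k3 = T.r * s)) ∨ ((∃ k2 ∈ T.sC, (T.b * T.c * T.y * (T.x⁻¹ * T.y⁻¹ * T.j * T.a * T.a * T.x) *
    T.y⁻¹) * s = s * (T.b * T.c * T.y * T.r * T.y⁻¹) * k2) ∧ (s * u * k3 = (T.x⁻¹ * T.y⁻¹ * T.j *
    T.a * T.a * T.x) * s ∨ s * (T.b * T.c * T.y * T.r * T.y⁻¹) * u * (T.b * T.c * T.y * T.r * T.y⁻¹)
    * T.a * T.a * k3 = (T.x⁻¹ * T.y⁻¹ * T.j * T.a * T.a * T.x) * s))))) := by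
  have := PM.holds MM_ok MM_subs h (p := (.bind 29 [10,12,9,5,3] (.bind 23 [7,1,1,11,10,8] (.bind 24 [10,23,9,5,3] (.all 5 22 (.imp (.eq
      [22,22] []) (.imp (.ex 2 25 (.eq [1,1,29,22,29,22,3,3] [25])) (.ex 5 21 (.and (.eq [1,21]
      [21,1]) (.and (.ex 2 26 (.eq [21,11] [26,11,21])) (.ex 2 28 (.and (.eq [21,3,3] [28,3,3,21])
      (.or (.and (.ex 2 27 (.eq [21,29] [27,29,21])) (.or (.eq [28,22,21] [21,12]) (.eq
      [28,1,1,29,22,29,21] [21,12]))) (.and (.ex 2 27 (.eq [21,24] [27,29,21])) (.or (.eq [28,22,21]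
      [21,23]) (.eq [28,1,1,29,22,29,21] [21,23])))))))))))))))) (by decide +kernel)
  simp only [Fm.sem, wv_cons, wv_nil, one_mul, upd_apply, Nat.reduceEqDiff, ↓reduceIte, g_simp, MM_W0, MM_W1,
    MM_W2, MM_W3, MM_W4, MM_W5, MM_W6, MM_W7, MM_W8, MM_W9] at this
  exact this

theorem m_V (h : Emb MM.m T.M.g) :
    (∀ p ∈ T.sW, p * p = 1 → (∃ v ∈ T.sV, p = v)) ∧ (∀ p ∈ T.sW, p * T.r = T.r * p → p * T.j * T.r *
    T.j = T.j * T.r * T.j * p → T.c⁻¹ * T.y⁻¹ * T.b * p * T.c⁻¹ * T.y⁻¹ * T.b * p * T.c⁻¹ * T.y⁻¹ *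
    T.b * p = 1 → p = 1) ∧ ¬ (∃ w ∈ T.sW, T.r = w) := by
  have := PM.holds MM_ok MM_subs h (p := (.and (.all 1 20 (.imp (.eq [20,20] []) (.ex 3 23 (.eq [20] [23])))) (.and (.all 1 20 (.imp (.eq
      [12,20] [20,12]) (.imp (.eq [11,12,11,20] [20,11,12,11]) (.imp (.eq
      [20,3,10,6,20,3,10,6,20,3,10,6] []) (.eq [20] []))))) (.not (.ex 1 24 (.eq [12] [24])))))) (by decide +kernel)
  simp only [Fm.sem, wv_cons, wv_nil, one_mul, upd_apply, Nat.reduceEqDiff, ↓reduceIte, g_simp, MM_W0, MM_W1,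
    MM_W2, MM_W3, MM_W4, MM_W5, MM_W6, MM_W7, MM_W8, MM_W9] at this
  exact this

/-- generators of `R` -/
def DR : List (List ℕ) := [[], [3, 3], [5, 5], [12], [11, 12, 11], [1]]

/-- generators of an elementary abelian group -/
def DE : List (List ℕ) := [[], [11], [10, 12, 9], [5, 5, 3, 3], [1, 1]]

/-- a table -/
def Wh : List (List ℕ) := [[], [3], [4], [5, 3, 1], [5, 2, 4], [5]]

theorem m_h (h : Emb MM.m T.M.g) :
    T.j * T.b * T.b * T.j = T.c * T.c ∧ T.b * T.c * T.y * T.r * T.y⁻¹ * T.r * T.b * T.c * T.y * T.r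
    * T.y⁻¹ * T.a * T.a = T.b * T.b * T.r * T.a ∧ T.j * T.b * T.b * T.r * T.a * T.j = T.j * T.r *
    T.j * T.c * T.c * T.a := by
  have := PM.holds MM_ok MM_subs h (p := (.and (.eq [11,3,3,11] [5,5]) (.and (.eq [1,1,10,12,9,5,3,12,10,12,9,5,3] [1,12,3,3]) (.eq
      [11,1,12,3,3,11] [1,5,5,11,12,11])))) (by decide +kernel)
  simp only [Fm.sem, wv_cons, wv_nil, one_mul, upd_apply, Nat.reduceEqDiff, ↓reduceIte, g_simp, MM_W0, MM_W1,
    MM_W2, MM_W3, MM_W4, MM_W5, MM_W6, MM_W7, MM_W8, MM_W9] at this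
  exact this

theorem m_wirt (h : Emb MM.m T.M.g) {e : G} (a : Act (sg T.M.g DR) e Wh) (l : ℕ) :
    sg T.M.g DR l * ((e * (T.c⁻¹ * T.y⁻¹ * T.b))⁻¹ * (T.y * e)) =
      (e * (T.c⁻¹ * T.y⁻¹ * T.b))⁻¹ * (T.y * e) * sg T.M.g DR l := by
  have ay := PM.act MM_ok MM_subs h (D := DR) (W := [[],[2],[2,1],[4,3],[3],[5]]) [9] (by decide +kernel)
  have ac := PM.act MM_ok MM_subs h (D := DR) (W := [[],[2,1],[1],[2,4,2,1],[5,4,3,2],[5]]) [3,10,6] (by decide +kernel)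
  have a1 := PM.red MM_ok MM_subs h (ay.mul a) [[],[4,3],[3],[5,4,3,2],[5,1,3,2],[5]] (by decide +kernel)
  have a2 := PM.red MM_ok MM_subs h (a.mul ac) [[],[4,3],[3],[5,4,3,2],[5,1,3,2],[5]] (by decide +kernel)
  simpa only [wv_cons, wv_nil, one_mul, g_simp] using a1.comm a2 l

theorem m_k (h : Emb MM.m T.M.g) : Act (sg T.g DE) (T.x⁻¹ * T.r * T.x⁻¹) [[],[2],[2,1],[4],[4,3]] := by
  have ay := PM.act MM_ok MM_subs h (D := DE) (W := [[],[2],[2,1],[4],[4,3]]) [8,12,8] (by decide +kernel)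
  rw [M_sg (by decide +kernel)] at ay
  simpa only [wv_cons, wv_nil, one_mul, g_simp] using ay

theorem m_inv (h : Emb MM.m T.M.g) :
    T.x⁻¹ * T.y * T.j = T.r * T.x⁻¹ * T.y ∧ (∀ k ∈ T.sX, k * k * k * k * k * k * k = 1) ∧ (∀ k ∈
    T.sY, k * k * k = 1) ∧ (∀ p ∈ T.sM, p * p = 1 → (p = 1 ∨ (∃ k1 ∈ T.sX, k1 * p = T.a * T.a * k1 ∨
    (∃ k2 ∈ T.sY, (k2 * (k1 * p * k1 * k1 * k1 * k1 * k1 * k1) * k2 * k2) * T.j * T.a * T.a = T.a *
    T.a * (k2 * (k1 * p * k1 * k1 * k1 * k1 * k1 * k1) * k2 * k2) * T.j ∧ (k2 * (k1 * p * k1 * k1 *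
    k1 * k1 * k1 * k1) * k2 * k2) * T.j * T.b * T.b = T.b * T.b * (k2 * (k1 * p * k1 * k1 * k1 * k1
    * k1 * k1) * k2 * k2) * T.j ∧ (∃ w ∈ T.sW, w * (k2 * (k1 * p * k1 * k1 * k1 * k1 * k1 * k1) * k2
    * k2) = T.j * w ∨ w * (k2 * (k1 * p * k1 * k1 * k1 * k1 * k1 * k1) * k2 * k2) = T.a * T.j *
    w))))) := by
  have := PM.holds MM_ok MM_subs h (p := (.and (.eq [11,9,8] [9,8,12]) (.and (.all 8 25 (.eq [25,25,25,25,25,25,25] [])) (.and (.all 9 25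
      (.eq [25,25,25] [])) (.all 0 20 (.imp (.eq [20,20] []) (.or (.eq [20] []) (.ex 8 26 (.or (.eq
      [20,26] [26,1,1]) (.bind 22 [26,26,26,26,26,26,20,26] (.ex 9 27 (.bind 23 [27,27,22,27] (.and
      (.eq [1,1,11,23] [11,23,1,1]) (.and (.eq [3,3,11,23] [11,23,3,3]) (.ex 1 24 (.or (.eq [23,24]
      [24,11]) (.eq [23,24] [24,11,1]))))))))))))))))) (by decide +kernel)
  simp only [Fm.sem, wv_cons, wv_nil, one_mul, upd_apply, Nat.reduceEqDiff, ↓reduceIte, g_simp, MM_W0, MM_W1,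
    MM_W2, MM_W3, MM_W4, MM_W5, MM_W6, MM_W7, MM_W8, MM_W9] at this
  exact this

end Cfsg.Lib.HST
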